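import Cfsg.Agent.H22.NE.Base
import Cfsg.Agent.H22.MixG.KFact
import Cfsg.Agent.H15.NG2.KG

/-!
# `KN` for K-groups (helper22)
-/

set_option autoImplicit false
set_option linter.unusedSectionVars false

namespace Cfsg.Agent.H22.NE

open Subgroup
open Cfsg (IsKGroup)
open Cfsg.Agent.H309.NS (Mem)

universe u

theorem allTw_of_isKGroup {V : Type u} [Group V] [Finite V] {p : ℕ} (hV : IsKGroup V) (hp : p.Prime)
    (hpV : ¬ p ∣ Nat.card V) : AllTw p V := by
  intro K _ h1 hna h L _ hL P hP hs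
  exact (H17.NS.allTP_of_isKGroup hV hp hpV h1 hna h hL P hP hs).2

theorem kn_of {G : Type u} [Group G] [Finite G] {p : ℕ} {A : Subgroup G} {θ : G → Subgroup G} (hp : p.Prime)
    (hV : ∀ V, Mem p A θ V → IsKGroup V) : KN p A θ :=
  ⟨fun V h => MixG.good_of_isKGroup (hV V h) hp h.cop, fun V h => H17.NS.allNS_of_isKGroup (hV V h) hp h.cop,
    fun V h => H15.NG2.allKT_of_isKGroup (hV V h) hp h.cop, fun V h => allTw_of_isKGroup (hV V h) hp h.cop⟩

end Cfsg.Agent.H22.NE
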